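import Mathlib.AlgebraicGeometry.ZariskisMainTheorem
import Mathlib.AlgebraicGeometry.FunctionField
import Mathlib.AlgebraicGeometry.Morphisms.SchemeTheoreticallyDominant
import Mathlib.AlgebraicGeometry.Morphisms.IsIso
import Mathlib.RingTheory.IntegralClosure.IntegrallyClosed

/-!
# Birational morphisms quasi-finite over a normal point
-/

set_option autoImplicit false
set_option linter.style.haveILetI false
set_option backward.isDefEq.respectTransparency false
set_option backward.isDefEq.respectTransparency.types false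

universe u

open CategoryTheory CategoryTheory.Limits AlgebraicGeometry TopologicalSpace Opposite

namespace Groth.Agent.Birat17

/-- An element integral over a domain which is a fraction lies in any normal localization. -/
theorem exists_mul_eq_of_isIntegral {A C : Type u} [CommRing A] [IsDomain A] [CommRing C] [IsDomain C]
    (φ : A →+* C) (hφ : Function.Injective φ) {σ a : A} (hσ : σ ≠ 0) {c : C} (hc : φ σ * c = φ a)
    (hi : φ.IsIntegralElem c) (p : Ideal A) [p.IsPrime] (L : Type u) [CommRing L] [Algebra A L]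
    [IsLocalization.AtPrime L p] [IsIntegrallyClosed L] :
    ∃ t ∉ p, ∃ a' : A, φ t * c = φ a' := by
  obtain ⟨P, hP, hPc⟩ := hi
  haveI : IsDomain L := IsLocalization.isDomain_of_atPrime L p
  let K := FractionRing L
  let ι : A →+* K := (algebraMap L K).comp (algebraMap A L)
  have hle : p.primeCompl ≤ nonZeroDivisors A := p.primeCompl_le_nonZeroDivisors
  have hι : Function.Injective ι :=
    (IsFractionRing.injective L K).comp (IsLocalization.injective L hle)
  have hισ : ι σ ≠ 0 := (map_ne_zero_iff ι hι).2 hσ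
  have h1 := Polynomial.scaleRoots_eval₂_eq_zero φ (s := σ) hPc
  rw [hc, Polynomial.eval₂_at_apply] at h1
  have h2 : (P.scaleRoots σ).eval a = 0 := (map_eq_zero_iff φ hφ).1 h1
  let ξ : K := ι a / ι σ
  have h3 : Polynomial.eval₂ ι ξ P = 0 := by
    have h4 := Polynomial.scaleRoots_eval₂_mul (p := P) ι ξ σ
    rw [show ι σ * ξ = ι a from mul_div_cancel₀ _ hισ, Polynomial.eval₂_at_apply, h2, map_zero] at h4
    exact (mul_eq_zero.1 h4.symm).resolve_left (pow_ne_zero _ hισ)
  have hint : IsIntegral L ξ := ⟨P.map (algebraMap A L), hP.map _, by rw [Polynomial.eval₂_map]; exact h3⟩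
  obtain ⟨y, hy⟩ := IsIntegrallyClosed.isIntegral_iff.1 hint
  obtain ⟨⟨a', t⟩, hat⟩ := IsLocalization.surj p.primeCompl y
  refine ⟨t, t.2, a', ?_⟩
  have h5 : ι (a * t) = ι (a' * σ) := by
    have h6 : ξ * ι t = ι a' := by
      rw [← hy]
      exact (map_mul (algebraMap L K) _ _).symm.trans (congrArg (algebraMap L K) hat)
    rw [map_mul, map_mul, ← h6, mul_right_comm, div_mul_cancel₀ _ hισ]
  have h7 : a * t = a' * σ := hι h5
  refine mul_left_cancel₀ ((map_ne_zero_iff φ hφ).2 hσ) ?_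
  rw [mul_left_comm, hc, ← map_mul, ← map_mul, mul_comm (t : A), h7, mul_comm σ]

variable {X Y : Scheme.{u}} [IsIntegral X] [IsIntegral Y] (g : Y ⟶ X) {W : X.Opens}

theorem isDominant_of_isIso_restrict (hW : (W : Set X).Nonempty) (hgW : IsIso (g ∣_ W)) : IsDominant g := by
  refine ⟨Dense.mono (fun w hw => ?_) (W.2.dense hW)⟩
  obtain ⟨v, hv⟩ := (g ∣_ W).surjective ⟨w, hw⟩
  refine ⟨v.1, ?_⟩
  have := congrArg (W.ι : W.toScheme → X) hv
  rw [← Scheme.Hom.comp_apply, morphismRestrict_ι] at this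
  exact this

theorem bijective_app_of_le (hgW : IsIso (g ∣_ W)) {V : X.Opens} (hV : V ≤ W) :
    Function.Bijective (g.app V).hom := by
  have h : IsIso ((g ∣_ W).app (W.ι ⁻¹ᵁ V)) := inferInstance
  rw [morphismRestrict_app] at h
  haveI := h
  haveI : IsIso (g.app (W.ι ''ᵁ W.ι ⁻¹ᵁ V)) :=
    IsIso.of_isIso_comp_right _ (Y.presheaf.map (eqToHom (image_morphismRestrict_preimage g W (W.ι ⁻¹ᵁ V))).op)
  have e : W.ι ''ᵁ W.ι ⁻¹ᵁ V = V := by
    rw [Scheme.Hom.image_preimage_eq_opensRange_inf, Scheme.Opens.opensRange_ι]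
    exact inf_eq_right.2 hV
  rw [← e]
  exact ConcreteCategory.bijective_of_isIso (g.app (W.ι ''ᵁ W.ι ⁻¹ᵁ V))

/-- Over an affine neighbourhood of a normal point, integral functions upstairs come from downstairs
after inverting a function not vanishing at the point. -/
theorem exists_fraction [QuasiCompact g] (hW : (W : Set X).Nonempty) (hgW : IsIso (g ∣_ W)) {x : X}
    (hx : IsIntegrallyClosed (X.presheaf.stalk x)) {U : X.Opens} (hU : IsAffineOpen U) (hxU : x ∈ U)
    (c : Γ(Y, g ⁻¹ᵁ U)) (hc : (g.app U).hom.IsIntegralElem c) :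
    ∃ (t : Γ(X, U)) (a : Γ(X, U)), x ∈ X.basicOpen t ∧ (g.app U).hom t * c = (g.app U).hom a := by
  haveI := isDominant_of_isIso_restrict g hW hgW
  haveI : IsSchemeTheoreticallyDominant g := .of_isDominant g
  haveI : Nonempty U := ⟨⟨x, hxU⟩⟩
  haveI : IsDomain Γ(X, U) := IsIntegral.component_integral U
  obtain ⟨w, hw⟩ := (W.2.dense hW).inter_open_nonempty _ U.2 ⟨x, hxU⟩
  have hwU : w ∈ U := hw.1
  have hwW : w ∈ W := hw.2
  obtain ⟨s, hsW, hws⟩ := hU.exists_basicOpen_le ⟨w, hwW⟩ hwU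
  have hs : s ≠ 0 := fun h => by rw [h, Scheme.basicOpen_zero] at hws; exact hws
  have hφ : Function.Injective (g.app U).hom := g.app_injective U
  have hne : Nonempty ↥(g ⁻¹ᵁ X.basicOpen s) := by
    obtain ⟨v, hv⟩ := (g ∣_ W).surjective ⟨w, hsW hws⟩
    refine ⟨⟨v.1, ?_⟩⟩
    have := congrArg (W.ι : W.toScheme → X) hv
    rw [← Scheme.Hom.comp_apply, morphismRestrict_ι] at this
    show g v.1 ∈ X.basicOpen s
    rw [show g v.1 = w from this]
    exact hws
  haveI := hne
  haveI : Nonempty ↥(g ⁻¹ᵁ U) := hne.map fun z => ⟨z.1, X.basicOpen_le s z.2⟩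
  haveI : Nonempty (g ⁻¹ᵁ U : Y.Opens).toScheme := (inferInstance : Nonempty ↥(g ⁻¹ᵁ U))
  haveI : Nonempty (g ⁻¹ᵁ X.basicOpen s : Y.Opens).toScheme := hne
  haveI : IsDomain Γ(Y, g ⁻¹ᵁ U) := IsIntegral.component_integral _
  have hle : g ⁻¹ᵁ X.basicOpen s ≤ g ⁻¹ᵁ U := g.preimage_mono (X.basicOpen_le s)
  obtain ⟨α, hα⟩ := (bijective_app_of_le g hgW hsW).2 ((Y.presheaf.map (homOfLE hle).op).hom c)
  letI : Algebra Γ(X, U) Γ(X, X.basicOpen s) := (X.presheaf.map (homOfLE (X.basicOpen_le s)).op).hom.toAlgebra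
  haveI : IsLocalization.Away s Γ(X, X.basicOpen s) := hU.isLocalization_basicOpen s
  obtain ⟨⟨a, _, k, rfl⟩, ha⟩ := IsLocalization.surj (Submonoid.powers s) α
  have hnat : ∀ r : Γ(X, U), (Y.presheaf.map (homOfLE hle).op).hom ((g.app U).hom r) =
      (g.app (X.basicOpen s)).hom (algebraMap Γ(X, U) Γ(X, X.basicOpen s) r) := fun r =>
    (ConcreteCategory.congr_hom (g.naturality (homOfLE (X.basicOpen_le s)).op) r).symm
  have h1 : (g.app U).hom (s ^ k) * c = (g.app U).hom a := by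
    apply map_injective_of_isIntegral Y (homOfLE hle)
    show (Y.presheaf.map (homOfLE hle).op).hom _ = (Y.presheaf.map (homOfLE hle).op).hom _
    rw [map_mul, hnat, hnat, ← hα, ← map_mul, mul_comm]
    exact congrArg _ ha
  letI := X.presheaf.algebra_section_stalk ⟨x, hxU⟩
  haveI := hU.isLocalization_stalk ⟨x, hxU⟩
  obtain ⟨t, ht, a', hta⟩ := exists_mul_eq_of_isIntegral (g.app U).hom hφ (pow_ne_zero k hs) h1 hc
    (hU.primeIdealOf ⟨x, hxU⟩).asIdeal (X.presheaf.stalk x)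
  refine ⟨t, a', (X.mem_basicOpen t x hxU).2 ?_, hta⟩
  exact IsLocalization.map_units (X.presheaf.stalk x) (⟨t, ht⟩ : (hU.primeIdealOf ⟨x, hxU⟩).asIdeal.primeCompl)

/-- Zariski's main theorem over a normal point. -/
theorem exists_isIso_restrict [IsProper g] (hW : (W : Set X).Nonempty) (hgW : IsIso (g ∣_ W)) (x : X)
    (hx : IsIntegrallyClosed (X.presheaf.stalk x)) (y : Y) (hy : g y = x) (hq : g.QuasiFiniteAt y) :
    ∃ V : X.Opens, x ∈ V ∧ IsIso (g ∣_ V) := by
  haveI := isDominant_of_isIso_restrict g hW hgW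
  haveI : IsSchemeTheoreticallyDominant g := .of_isDominant g
  let π := g.fromNormalization
  let ν := g.toNormalization
  haveI : IsSchemeTheoreticallyDominant ν := .of_isDominant ν
  obtain ⟨O, hyO, hO⟩ := g.exists_mem_and_isIso_morphismRestrict_toNormalization y hq
  obtain ⟨U, hU, hxU, -⟩ := exists_isAffineOpen_mem_and_subset (X := X) (x := x) (U := ⊤) trivial
  have huniq : ∀ z₁ z₂ : g.normalization, π z₁ = x → π z₂ = x → z₁ = z₂ := by
    intro z₁ z₂ hz₁ hz₂
    have hPU : IsAffineOpen (π ⁻¹ᵁ U) := hU.preimage π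
    have h1 : z₁ ∈ π ⁻¹ᵁ U := by show π z₁ ∈ U; rw [hz₁]; exact hxU
    have h2 : z₂ ∈ π ⁻¹ᵁ U := by show π z₂ ∈ U; rw [hz₂]; exact hxU
    have key : ∀ b : Γ(g.normalization, π ⁻¹ᵁ U), z₁ ∈ g.normalization.basicOpen b ↔ z₂ ∈ g.normalization.basicOpen b := by
      intro b
      have hgW' : IsIso ((ν ≫ π) ∣_ W) := by
        rw [g.toNormalization_fromNormalization]; exact hgW
      have hint : ((ν ≫ π).app U).hom.IsIntegralElem ((ν.app (π ⁻¹ᵁ U)).hom b) := by
        obtain ⟨P, hP, hPb⟩ := π.isIntegral_app U hU b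
        refine ⟨P, hP, ?_⟩
        show Polynomial.eval₂ ((ν.app (π ⁻¹ᵁ U)).hom.comp (π.app U).hom) ((ν.app (π ⁻¹ᵁ U)).hom b) P = 0
        exact (Polynomial.hom_eval₂ P (π.app U).hom (ν.app (π ⁻¹ᵁ U)).hom b).symm.trans (by rw [hPb, map_zero])
      haveI : QuasiCompact (ν ≫ π) := inferInstance
      obtain ⟨t, a, hxt, hta⟩ := exists_fraction (ν ≫ π) hW hgW' hx hU hxU _ hint
      have h3 : (π.app U).hom t * b = (π.app U).hom a := by
        apply ν.app_injective (π ⁻¹ᵁ U)
        rw [Scheme.Hom.comp_app] at hta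
        rw [map_mul]; exact hta
      have h4 : ∀ z : g.normalization, π z = x → (z ∈ g.normalization.basicOpen b ↔ x ∈ X.basicOpen a) := by
        intro z hz
        have h5 : z ∈ g.normalization.basicOpen ((π.app U).hom t) := by
          rw [← π.preimage_basicOpen t]; show π z ∈ X.basicOpen t; rw [hz]; exact hxt
        have h6 : z ∈ g.normalization.basicOpen ((π.app U).hom a) ↔ x ∈ X.basicOpen a := by
          rw [← π.preimage_basicOpen a]; show π z ∈ X.basicOpen a ↔ x ∈ X.basicOpen a; rw [hz]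
        rw [← h6, ← h3, Scheme.basicOpen_mul]
        exact ⟨fun h => ⟨h5, h⟩, fun h => h.2⟩
      rw [h4 z₁ hz₁, h4 z₂ hz₂]
    refine (?_ : Inseparable z₁ z₂).eq
    refine inseparable_iff_forall_isOpen.2 fun s hs => ?_
    constructor
    · intro hz
      obtain ⟨b, hb, hzb⟩ := hPU.exists_basicOpen_le ⟨z₁, (show z₁ ∈ (⟨s, hs⟩ : g.normalization.Opens) from hz)⟩ h1
      exact hb ((key b).1 hzb)
    · intro hz
      obtain ⟨b, hb, hzb⟩ := hPU.exists_basicOpen_le ⟨z₂, (show z₂ ∈ (⟨s, hs⟩ : g.normalization.Opens) from hz)⟩ h2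
      exact hb ((key b).2 hzb)
  have hsingle : g ⁻¹' {x} ⊆ {y} := fun y₁ hy₁ => by
    have e : ν y₁ = ν y := huniq _ _ (by rw [← Scheme.Hom.comp_apply, g.toNormalization_fromNormalization]; exact hy₁)
      (by rw [← Scheme.Hom.comp_apply, g.toNormalization_fromNormalization]; exact hy)
    haveI := hO
    have h1 : y₁ ∈ ν ⁻¹ᵁ O := by show ν y₁ ∈ O; rw [e]; exact hyO
    have h2 := (ν ∣_ O).isOpenEmbedding.injective (a₁ := ⟨y₁, h1⟩) (a₂ := ⟨y, hyO⟩) (by
      apply O.ι.isOpenEmbedding.injective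
      rw [← Scheme.Hom.comp_apply, ← Scheme.Hom.comp_apply, morphismRestrict_ι]
      exact e)
    exact congrArg Subtype.val h2
  obtain ⟨U₀, hxU₀, hfin⟩ := exists_isFinite_morphismRestrict_of_finite_preimage_singleton g x
    ((Set.finite_singleton y).subset hsingle)
  obtain ⟨U', hU', hxU', hle⟩ := exists_isAffineOpen_mem_and_subset (X := X) (x := x) (U := U₀) hxU₀
  have hfinU : (g.app U').hom.Finite := by
    have hA : IsAffineOpen (U₀.ι ⁻¹ᵁ U') :=
      hU'.preimage_of_isOpenImmersion U₀.ι (le_of_le_of_eq hle U₀.opensRange_ι.symm)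
    have h := (g ∣_ U₀).finite_app _ hA
    rw [morphismRestrict_app, CommRingCat.hom_comp] at h
    have e : U₀.ι ''ᵁ U₀.ι ⁻¹ᵁ U' = U' := by
      rw [Scheme.Hom.image_preimage_eq_opensRange_inf, Scheme.Opens.opensRange_ι]
      exact inf_eq_right.2 hle
    have h' : (g.app (U₀.ι ''ᵁ U₀.ι ⁻¹ᵁ U')).hom.Finite := by
      have hi := (RingHom.Finite.of_surjective _ (ConcreteCategory.bijective_of_isIso
        (inv (Y.presheaf.map (eqToHom (image_morphismRestrict_preimage g U₀ (U₀.ι ⁻¹ᵁ U'))).op))).2).comp h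
      rw [← CommRingCat.hom_comp, ← CommRingCat.hom_comp, Category.assoc, IsIso.hom_inv_id, Category.comp_id] at hi
      exact hi
    rwa [e] at h'
  letI := (g.app U').hom.toAlgebra
  haveI : Module.Finite Γ(X, U') Γ(Y, g ⁻¹ᵁ U') := hfinU
  obtain ⟨G, hG⟩ := Module.Finite.fg_top (R := Γ(X, U')) (M := Γ(Y, g ⁻¹ᵁ U'))
  choose t a hxt hta using fun c : Γ(Y, g ⁻¹ᵁ U') =>
    exists_fraction g hW hgW hx hU' hxU' c (hfinU.to_isIntegral c)
  let T : Γ(X, U') := ∏ c ∈ G, t c
  have hT : x ∈ X.basicOpen T := by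
    refine (X.mem_basicOpen T x hxU').2 ?_
    rw [show (X.presheaf.germ U' x hxU').hom T = ∏ c ∈ G, (X.presheaf.germ U' x hxU').hom (t c) from map_prod _ _ _]
    exact IsUnit.prod_iff.2 fun c _ => (X.mem_basicOpen (t c) x hxU').1 (hxt c)
  have hTC : ∀ c : Γ(Y, g ⁻¹ᵁ U'), ∃ b, (g.app U').hom T * c = (g.app U').hom b := by
    intro c
    have hc : c ∈ Submodule.span Γ(X, U') (G : Set Γ(Y, g ⁻¹ᵁ U')) := hG ▸ trivial
    induction hc using Submodule.span_induction with
    | mem c hc =>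
      obtain ⟨d, hd⟩ := Finset.dvd_prod_of_mem t hc
      refine ⟨d * a c, ?_⟩
      rw [show T = t c * d from hd, map_mul, map_mul, mul_right_comm, hta, mul_comm]
    | zero => exact ⟨0, by rw [mul_zero, map_zero]⟩
    | add c d _ _ hc hd =>
      obtain ⟨b, hb⟩ := hc
      obtain ⟨b', hb'⟩ := hd
      exact ⟨b + b', by rw [mul_add, hb, hb', map_add]⟩
    | smul r c _ hc =>
      obtain ⟨b, hb⟩ := hc
      exact ⟨r * b, by rw [Algebra.smul_def, mul_left_comm, hb, map_mul]; rfl⟩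
  refine ⟨X.basicOpen T, hT, ?_⟩
  have hpre : IsAffineOpen (g ⁻¹ᵁ U') := by
    have hA : IsAffineOpen ((g ∣_ U₀) ⁻¹ᵁ (U₀.ι ⁻¹ᵁ U')) :=
      (hU'.preimage_of_isOpenImmersion U₀.ι (le_of_le_of_eq hle U₀.opensRange_ι.symm)).preimage _
    have h := hA.image_of_isOpenImmersion (g ⁻¹ᵁ U₀).ι
    rw [image_morphismRestrict_preimage, Scheme.Hom.image_preimage_eq_opensRange_inf, Scheme.Opens.opensRange_ι,
      inf_eq_right.2 (show U' ≤ U₀ from hle)] at h
    exact h
  have hbij : Function.Bijective (g.app (X.basicOpen T)).hom := by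
    refine ⟨g.app_injective _, fun z => ?_⟩
    letI : Algebra Γ(Y, g ⁻¹ᵁ U') Γ(Y, g ⁻¹ᵁ X.basicOpen T) :=
      (Y.presheaf.map (homOfLE (g.preimage_mono (X.basicOpen_le T))).op).hom.toAlgebra
    haveI : IsLocalization.Away ((g.app U').hom T) Γ(Y, g ⁻¹ᵁ X.basicOpen T) :=
      hpre.isLocalization_of_eq_basicOpen _ _ (g.preimage_basicOpen T)
    obtain ⟨⟨c, _, k, rfl⟩, hc⟩ := IsLocalization.surj (Submonoid.powers ((g.app U').hom T)) z
    obtain ⟨b, hb⟩ := hTC c
    have hu : IsUnit ((X.presheaf.map (homOfLE (X.basicOpen_le T)).op).hom T) :=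
      RingedSpace.isUnit_res_basicOpen X.toRingedSpace T
    obtain ⟨v, hv⟩ := hu
    refine ⟨(X.presheaf.map (homOfLE (X.basicOpen_le T)).op).hom b * ↑(v⁻¹ ^ (k + 1)), ?_⟩
    have hnat : ∀ r : Γ(X, U'), algebraMap Γ(Y, g ⁻¹ᵁ U') Γ(Y, g ⁻¹ᵁ X.basicOpen T) ((g.app U').hom r) =
        (g.app (X.basicOpen T)).hom ((X.presheaf.map (homOfLE (X.basicOpen_le T)).op).hom r) := fun r =>
      (ConcreteCategory.congr_hom (g.naturality (homOfLE (X.basicOpen_le T)).op) r).symm
    rw [map_mul, ← hnat, ← hb, map_mul, hnat, ← hv]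
    simp only at hc
    rw [← hc, map_pow, hnat, ← hv, ← map_pow]
    calc _ = z * ((g.app (X.basicOpen T)).hom ((v : Γ(X, X.basicOpen T)) * (v : Γ(X, X.basicOpen T)) ^ k * ↑(v⁻¹ ^ (k + 1)))) := by
          rw [map_mul, map_mul]; ring
      _ = z := by rw [← pow_succ', ← Units.val_pow_eq_pow_val, ← Units.val_mul, ← mul_pow, mul_inv_cancel, one_pow,
          Units.val_one, map_one, mul_one]
  haveI : IsAffine (X.basicOpen T).toScheme := hU'.basicOpen T
  haveI : IsAffine (g ⁻¹ᵁ X.basicOpen T).toScheme := by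
    rw [g.preimage_basicOpen T]; exact hpre.basicOpen _
  refine (HasAffineProperty.iff_of_isAffine (P := MorphismProperty.isomorphisms Scheme)).2 ⟨inferInstance, ?_⟩
  rw [morphismRestrict_appTop]
  have e : (X.basicOpen T).ι ''ᵁ ⊤ = X.basicOpen T := Scheme.Opens.ι_image_top _
  have : IsIso (g.app ((X.basicOpen T).ι ''ᵁ ⊤)) := by
    rw [e]; exact (ConcreteCategory.isIso_iff_bijective _).2 hbij
  infer_instance

end Groth.Agent.Birat17
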